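import Groth.Agent.Lib.Helper8.GTW.MulSec

/-! # Twisting sheaves: multiplication by a global section as a morphism of modules. -/

universe u
open CategoryTheory AlgebraicGeometry TopologicalSpace Opposite

namespace Groth.Agent.H8.GTW

variable {A σ : Type u} [CommRing A] [SetLike σ A] [AddSubgroupClass σ A] {𝒜 : ℕ → σ} [GradedRing 𝒜]

open GrTwist

lemma sectN_ext {n : ℤ} {U : (Opens (ProjectiveSpectrum.top 𝒜))ᵒᵖ} {s t : sectN (𝒜 := 𝒜) n U}
    (h : ∀ x : U.unop, ((s.1 x : twistAt 𝒜 n x.1) : Loc 𝒜 x.1) = (t.1 x).1) : s = t :=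
  Subtype.ext (funext fun x => Subtype.ext (h x))

lemma mulSec_add {k n : ℤ} {W V : Opens (ProjectiveSpectrum.top 𝒜)} (hV : V ≤ W)
    (u : sectN (𝒜 := 𝒜) k (op W)) (s t : sectN (𝒜 := 𝒜) n (op V)) :
    mulSec hV u (s + t) = mulSec hV u s + mulSec hV u t := by
  apply sectN_ext
  intro x
  change (u.1 _).1 * ((s.1 x).1 + (t.1 x).1) = (u.1 _).1 * (s.1 x).1 + (u.1 _).1 * (t.1 x).1
  rw [mul_add]

lemma mulSec_zero {k n : ℤ} {W V : Opens (ProjectiveSpectrum.top 𝒜)} (hV : V ≤ W)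
    (u : sectN (𝒜 := 𝒜) k (op W)) : mulSec hV u (0 : sectN (𝒜 := 𝒜) n (op V)) = 0 := by
  apply sectN_ext
  intro x
  change (u.1 _).1 * (0 : Loc 𝒜 x.1) = 0
  rw [mul_zero]

lemma mulSec_smul {k n : ℤ} {W V : Opens (ProjectiveSpectrum.top 𝒜)} (hV : V ≤ W)
    (u : sectN (𝒜 := 𝒜) k (op W)) (r : O (𝒜 := 𝒜) (op V)) (s : sectN (𝒜 := 𝒜) n (op V)) :
    mulSec hV u (r • s) = r • mulSec hV u s := by
  apply sectN_ext
  intro x
  change (u.1 _).1 * ((r.1 x • s.1 x : twistAt 𝒜 n x.1) : Loc 𝒜 x.1) =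
    ((r.1 x • (mulSec hV u s).1 x : twistAt 𝒜 (k + n) x.1) : Loc 𝒜 x.1)
  rw [coe_smul_val, coe_smul_val, mulSec_apply]
  ring

/-- multiplication by a global section of `O(k)` as a morphism of presheaves. -/
def mulPre {k : ℤ} (u : sectN (𝒜 := 𝒜) k (op ⊤)) (n : ℤ) : twistPre 𝒜 n ⟶ twistPre 𝒜 (k + n) where
  app U := AddCommGrpCat.ofHom
    { toFun := mulSec (le_top : U.unop ≤ ⊤) u
      map_zero' := mulSec_zero _ u
      map_add' := mulSec_add _ u }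
  naturality U V i := by
    ext s
    rfl

/-- multiplication by a global section of `O(k)` as a morphism `O(n) ⟶ O(k + n)`. -/
noncomputable def mulHom {k : ℤ} (u : sectN (𝒜 := 𝒜) k (op ⊤)) (n : ℤ) : twist 𝒜 n ⟶ twist 𝒜 (k + n) :=
  ⟨PresheafOfModules.homMk (M₁ := twistPMod 𝒜 n) (M₂ := twistPMod 𝒜 (k + n)) (mulPre u n)
    (fun U r s => mulSec_smul _ u r s)⟩

end Groth.Agent.H8.GTW
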