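import Groth.Agent.Lib.Helper8.GTW.Ample
import Groth.Agent.Lib.Lead.QC.AmpleGen

/-! # Serre's theorem: `F(n)` is globally generated for `n ≫ 0` on `Proj`. -/

universe u
open CategoryTheory Limits AlgebraicGeometry TopologicalSpace Opposite

namespace Groth.Agent.H8.GTW
open Groth.Agent.LD

variable {A σ : Type u} [CommRing A] [SetLike σ A] [AddSubgroupClass σ A] {𝒜 : ℕ → σ} [GradedRing 𝒜]

open GrTwist

/-- the section of `O(1)` attached to a degree one element. -/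
noncomputable def secOne (f : A) (hf : f ∈ 𝒜 1) : QC.unitMod (Proj 𝒜) ⟶ twist 𝒜 1 :=
  powHomSec f hf 1 ≫ (twistCongr (by simp) : twist 𝒜 ((1 : ℕ) : ℤ) ≅ twist 𝒜 1).hom

theorem genLocus_secOne {s : Set A} (hs1 : ∀ f ∈ s, f ∈ 𝒜 1)
    (hgen : (HomogeneousIdeal.irrelevant 𝒜).toIdeal = Ideal.span s) (f : A) (hf : f ∈ 𝒜 1) :
    CohB1.genLocus (twist 𝒜 1) (secOne f hf) = Proj.basicOpen 𝒜 f := by
  rw [secOne, QC.genLocus_comp_iso]
  exact genLocus_powHomSec hs1 hgen f hf 1 Nat.one_pos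

instance quasiSeparatedSpace_proj : QuasiSeparatedSpace (Proj 𝒜) :=
  (quasiSeparatedSpace_iff_quasiSeparated (Proj 𝒜)).mpr inferInstance

/-- `F ⊗ O(1)^{⊗ N}` is a quotient of a finite free module for `N ≫ 0`. -/
theorem exists_epi_free_tensorPow (s : Finset A) (hs1 : ∀ f ∈ s, f ∈ 𝒜 1)
    (hs : (HomogeneousIdeal.irrelevant 𝒜).toIdeal = Ideal.span (s : Set A))
    (F : (Proj 𝒜).Modules) [F.IsQuasicoherent] (hFT : F.IsFiniteType) :
    ∃ N₀ : ℕ, ∀ N : ℕ, N₀ ≤ N →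
      ∃ (K : ℕ) (p : FlatMod.freeMod (Proj 𝒜) K ⟶
        CohB1.tensorMod F (CohB1.tensorPow (twist 𝒜 1) N)), Epi p := by
  classical
  haveI := compactSpace_proj s hs1 hs
  let e := s.equivFin
  apply QC.exists_epi_free_twist (twist 𝒜 1) (isInvertible_twist_of_span hs1 hs 1)
    (fun i : Fin s.card => secOne (e.symm i).1 (hs1 _ (e.symm i).2))
  · intro i
    rw [genLocus_secOne hs1 hs]
    exact Proj.isAffineOpen_basicOpen 𝒜 _ (hs1 _ (e.symm i).2) Nat.one_pos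
  · intro x
    obtain ⟨f, hfs, hxf⟩ := exists_mem_basicOpen_of_span hs x
    refine ⟨e ⟨f, hfs⟩, ?_⟩
    rw [genLocus_secOne hs1 hs]
    simp only [Equiv.symm_apply_apply]
    exact hxf
  · exact hFT

/-- `F(N) = F ⊗ O(N)` is a quotient of a finite free module for `N ≫ 0`. -/
theorem exists_epi_free_twistBy (s : Finset A) (hs1 : ∀ f ∈ s, f ∈ 𝒜 1)
    (hs : (HomogeneousIdeal.irrelevant 𝒜).toIdeal = Ideal.span (s : Set A))
    (F : (Proj 𝒜).Modules) [F.IsQuasicoherent] (hFT : F.IsFiniteType) :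
    ∃ N₀ : ℕ, ∀ N : ℕ, N₀ ≤ N →
      ∃ (K : ℕ) (p : FlatMod.freeMod (Proj 𝒜) K ⟶ CohB1.tensorMod F (twist 𝒜 (N : ℤ))), Epi p := by
  obtain ⟨N₀, h⟩ := exists_epi_free_tensorPow s hs1 hs F hFT
  refine ⟨N₀, fun N hN => ?_⟩
  obtain ⟨K, p, hp⟩ := h N hN
  obtain ⟨φ⟩ := nonempty_twist_iso_tensorPow hs1 hs N
  exact ⟨K, p ≫ (QC.tensorIso' (Iso.refl F) φ.symm).hom, epi_comp _ _⟩

end Groth.Agent.H8.GTW
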