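import Groth.Agent.Lib.Helper8.GTW.UnitBasis
import Groth.Agent.Lib.Helper8.ProjTilde.Sect

/-! # Multiplication `M(k)~ × O(n) → M(k + n)~` on `Proj`. -/

set_option autoImplicit false
universe u
open CategoryTheory AlgebraicGeometry TopologicalSpace Opposite

namespace Groth.Agent.H8.GTW
open Groth.Agent.LD Groth.Agent.H8.ProjTilde

variable {A σ : Type u} [CommRing A] [SetLike σ A] [AddSubgroupClass σ A] {𝒜 : ℕ → σ} [GradedRing 𝒜]
variable {M τ : Type u} [AddCommGroup M] [Module A M] [SetLike τ M] [AddSubgroupClass τ M] {ℳ : ℕ → τ}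
  [SetLike.GradedSMul 𝒜 ℳ]

open GrTwist

omit [AddSubgroupClass τ M] in
/-- the product of a degree `n` fraction and a degree `k` fraction of `M` has degree `k + n`. -/
lemma smul_mem_tildeAt' {k n : ℤ} {x : ProjectiveSpectrum 𝒜} {u : Loc 𝒜 x} (hu : u ∈ twistAt 𝒜 n x)
    {q : GrMod.LocMod 𝒜 (M := M) x} (hq : q ∈ GrMod.tildeAt 𝒜 ℳ k x) :
    u • q ∈ GrMod.tildeAt 𝒜 ℳ (k + n) x := by
  induction hu using Submodule.span_induction with
  | mem u hu =>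
    obtain ⟨i, j, a, s, hs, hij, rfl⟩ := hu
    induction hq using Submodule.span_induction with
    | mem q hq =>
      obtain ⟨i', j', b, t, ht, hij', rfl⟩ := hq
      rw [LocalizedModule.mk_smul_mk]
      have hst : s.1 * t.1 ∉ x.asHomogeneousIdeal := fun h =>
        (x.isPrime.mem_or_mem h).elim hs ht
      exact Submodule.subset_span ⟨i + i', j + j', ⟨(a : A) • (b : M), SetLike.GradedSMul.smul_mem a.2 b.2⟩,
        ⟨s.1 * t.1, SetLike.mul_mem_graded s.2 t.2⟩, hst, by push_cast; omega, rfl⟩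
    | zero => rw [smul_zero]; exact Submodule.zero_mem _
    | add p q _ _ hp hq => rw [smul_add]; exact Submodule.add_mem _ hp hq
    | smul c q _ hq =>
      rw [GrMod.a0_smul_def, smul_comm]
      exact Submodule.smul_mem _ c hq
  | zero => rw [zero_smul]; exact Submodule.zero_mem _
  | add p q _ _ hp hq => rw [add_smul]; exact Submodule.add_mem _ hp hq
  | smul c u _ hu =>
    rw [Algebra.smul_def, mul_smul]
    have := Submodule.smul_mem _ c hu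
    rwa [GrMod.a0_smul_def] at this

/-- pointwise product of a section of `M(k)~` with a section of `O(n)`. -/
def mulModFun {k n : ℤ} {V : Opens (ProjectiveSpectrum.top 𝒜)}
    (t : ∀ x : V, GrMod.tildeAt 𝒜 ℳ k x.1) (u : ∀ x : V, twistAt 𝒜 n x.1) :
    ∀ x : V, GrMod.tildeAt 𝒜 ℳ (k + n) x.1 :=
  fun x => ⟨(u x).1 • (t x).1, smul_mem_tildeAt' (u x).2 (t x).2⟩

omit [AddSubgroupClass τ M] in
lemma mulModFun_pred {k n : ℤ} {V : Opens (ProjectiveSpectrum.top 𝒜)}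
    (t : ∀ x : V, GrMod.tildeAt 𝒜 ℳ k x.1) (ht : (GrMod.isLocFrac 𝒜 ℳ k).pred t)
    (u : ∀ x : V, twistAt 𝒜 n x.1) (hu : (isLocFracN 𝒜 n).pred u) :
    (GrMod.isLocFrac 𝒜 ℳ (k + n)).pred (mulModFun t u) := fun x => by
  rcases hu x with ⟨Va, ma, ia, i, j, ⟨a, a_mem⟩, ⟨c, c_mem⟩, nina, ca, wa⟩
  rcases ht x with ⟨Vb, mb, ib, i', j', ⟨b, b_mem⟩, ⟨s, s_mem⟩, ninb, cb, wb⟩
  replace ca : (i : ℤ) = j + n ∨ a = 0 := ca
  replace cb : (i' : ℤ) = j' + k ∨ b = 0 := cb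
  have nin : ∀ y : (Va ⊓ Vb : Opens _), c * s ∉ y.1.asHomogeneousIdeal := fun y h =>
    ((y.1.isPrime.mem_or_mem h).elim (nina ⟨y.1, y.2.1⟩)) (ninb ⟨y.1, y.2.2⟩)
  refine ⟨Va ⊓ Vb, ⟨ma, mb⟩, Opens.infLERight _ _ ≫ ib, i + i', j + j',
    ⟨a • b, SetLike.GradedSMul.smul_mem a_mem b_mem⟩, ⟨c * s, SetLike.mul_mem_graded c_mem s_mem⟩,
    nin, ?_, fun y => ?_⟩
  · rcases ca with ha | ha
    · rcases cb with hb | hb
      · exact Or.inl (by push_cast; omega)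
      · exact Or.inr (show a • b = 0 by rw [hb, smul_zero])
    · exact Or.inr (show a • b = 0 by rw [ha, zero_smul])
  · have e1 := wa ⟨y.1, y.2.1⟩
    have e2 := wb ⟨y.1, y.2.2⟩
    dsimp only at e1 e2 ⊢
    change (u ⟨y.1, leOfHom ib y.2.2⟩).1 • (t ⟨y.1, leOfHom ib y.2.2⟩).1 = _
    erw [e1, e2]
    rw [LocalizedModule.mk_smul_mk]
    rfl

/-- product of sections. -/
def mulModSec {k n : ℤ} {V : Opens (ProjectiveSpectrum.top 𝒜)}
    (t : GrMod.sect 𝒜 ℳ k (op V)) (u : sectN (𝒜 := 𝒜) n (op V)) : GrMod.sect 𝒜 ℳ (k + n) (op V) :=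
  ⟨mulModFun t.1 u.1, mulModFun_pred t.1 t.2 u.1 u.2⟩

lemma mulModSec_apply {k n : ℤ} {V : Opens (ProjectiveSpectrum.top 𝒜)}
    (t : GrMod.sect 𝒜 ℳ k (op V)) (u : sectN (𝒜 := 𝒜) n (op V)) (x : V) :
    ((mulModSec t u).1 x).1 = (u.1 x).1 • (t.1 x).1 := rfl

lemma mulModSec_add_left {k n : ℤ} {V : Opens (ProjectiveSpectrum.top 𝒜)}
    (t t' : GrMod.sect 𝒜 ℳ k (op V)) (u : sectN (𝒜 := 𝒜) n (op V)) :
    mulModSec (t + t') u = mulModSec t u + mulModSec t' u := by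
  refine sect_ext 𝒜 ℳ _ _ fun x => ?_
  change (u.1 x).1 • ((t.1 x).1 + (t'.1 x).1) = (u.1 x).1 • (t.1 x).1 + (u.1 x).1 • (t'.1 x).1
  rw [smul_add]

lemma mulModSec_add_right {k n : ℤ} {V : Opens (ProjectiveSpectrum.top 𝒜)}
    (t : GrMod.sect 𝒜 ℳ k (op V)) (u u' : sectN (𝒜 := 𝒜) n (op V)) :
    mulModSec t (u + u') = mulModSec t u + mulModSec t u' := by
  refine sect_ext 𝒜 ℳ _ _ fun x => ?_
  change ((u.1 x).1 + (u'.1 x).1) • (t.1 x).1 = (u.1 x).1 • (t.1 x).1 + (u'.1 x).1 • (t.1 x).1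
  rw [add_smul]

lemma mulModSec_smul_left {k n : ℤ} {V : Opens (ProjectiveSpectrum.top 𝒜)}
    (r : O (𝒜 := 𝒜) (op V)) (t : GrMod.sect 𝒜 ℳ k (op V)) (u : sectN (𝒜 := 𝒜) n (op V)) :
    mulModSec (r • t) u = r • mulModSec t u := by
  refine sect_ext 𝒜 ℳ _ _ fun x => ?_
  change (u.1 x).1 • ((r.1 x • t.1 x : GrMod.tildeAt 𝒜 ℳ k x.1) : GrMod.LocMod 𝒜 (M := M) x.1) =
    ((r.1 x • (mulModSec t u).1 x : GrMod.tildeAt 𝒜 ℳ (k + n) x.1) : GrMod.LocMod 𝒜 (M := M) x.1)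
  rw [GrMod.coe_smul_val, GrMod.coe_smul_val, mulModSec_apply, smul_comm]

lemma mulModSec_smul_right {k n : ℤ} {V : Opens (ProjectiveSpectrum.top 𝒜)}
    (r : O (𝒜 := 𝒜) (op V)) (t : GrMod.sect 𝒜 ℳ k (op V)) (u : sectN (𝒜 := 𝒜) n (op V)) :
    mulModSec t (r • u) = r • mulModSec t u := by
  refine sect_ext 𝒜 ℳ _ _ fun x => ?_
  change ((r.1 x • u.1 x : twistAt 𝒜 n x.1) : Loc 𝒜 x.1) • (t.1 x).1 =
    ((r.1 x • (mulModSec t u).1 x : GrMod.tildeAt 𝒜 ℳ (k + n) x.1) : GrMod.LocMod 𝒜 (M := M) x.1)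
  rw [GrTwist.coe_smul_val, GrMod.coe_smul_val, mulModSec_apply, mul_smul]

variable (𝒜 ℳ) in
/-- multiplication of sections as a bilinear map. -/
noncomputable def mulModBilin (k n : ℤ) (U : (Proj 𝒜).Opens) :
    Γ(GrMod.tilde 𝒜 ℳ k, U) →ₗ[Γ(Proj 𝒜, U)] Γ(twist 𝒜 n, U) →ₗ[Γ(Proj 𝒜, U)]
      Γ(GrMod.tilde 𝒜 ℳ (k + n), U) :=
  LinearMap.mk₂ Γ(Proj 𝒜, U)
    (fun (t : Γ(GrMod.tilde 𝒜 ℳ k, U)) (u : Γ(twist 𝒜 n, U)) =>
      (show Γ(GrMod.tilde 𝒜 ℳ (k + n), U) from mulModSec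
        (show GrMod.sect 𝒜 ℳ k (op U) from t) (show sectN (𝒜 := 𝒜) n (op U) from u)))
    (fun _ _ _ => mulModSec_add_left _ _ _)
    (fun _ _ _ => mulModSec_smul_left _ _ _)
    (fun _ _ _ => mulModSec_add_right _ _ _)
    (fun _ _ _ => mulModSec_smul_right _ _ _)

lemma mulModBilin_apply (k n : ℤ) (U : (Proj 𝒜).Opens) (t : Γ(GrMod.tilde 𝒜 ℳ k, U))
    (u : Γ(twist 𝒜 n, U)) :
    mulModBilin 𝒜 ℳ k n U t u = (show Γ(GrMod.tilde 𝒜 ℳ (k + n), U) from mulModSec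
      (show GrMod.sect 𝒜 ℳ k (op U) from t) (show sectN (𝒜 := 𝒜) n (op U) from u)) := rfl

variable (𝒜 ℳ) in
/-- the multiplication `M(k)~ ⊗ O(n) ⟶ M(k + n)~`. -/
noncomputable def mulModTensor (k n : ℤ) :
    CohB1.tensorMod (GrMod.tilde 𝒜 ℳ k) (twist 𝒜 n) ⟶ GrMod.tilde 𝒜 ℳ (k + n) :=
  QC.tensorDescAll _ _ _ (mulModBilin 𝒜 ℳ k n) (fun _ _ _ _ _ => rfl)

lemma mulModTensor_app_tmul (k n : ℤ) (U : (Proj 𝒜).Opens) (t : Γ(GrMod.tilde 𝒜 ℳ k, U))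
    (u : Γ(twist 𝒜 n, U)) :
    (mulModTensor 𝒜 ℳ k n).app U (SecTwist.tmul _ _ U t u) = mulModBilin 𝒜 ℳ k n U t u :=
  QC.tensorDescAll_app_tmul _ _ _ _ _ U t u

/-- transport of sections of `M(k)~` along an equality of degrees. -/
def castSecM {k k' : ℤ} (h : k = k') {U : (Opens (ProjectiveSpectrum.top 𝒜))ᵒᵖ}
    (s : GrMod.sect 𝒜 ℳ k U) : GrMod.sect 𝒜 ℳ k' U := h ▸ s

lemma castSecM_val {k k' : ℤ} (h : k = k') {U : (Opens (ProjectiveSpectrum.top 𝒜))ᵒᵖ}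
    (s : GrMod.sect 𝒜 ℳ k U) (x : U.unop) :
    (((castSecM h s).1 x : GrMod.tildeAt 𝒜 ℳ k' x.1) : GrMod.LocMod 𝒜 (M := M) x.1) = (s.1 x).1 := by
  subst h; rfl

/-- multiplication by a unit section is bijective. -/
theorem mulModSec_bijective_of_isUnitSec {k n : ℤ} {V : Opens (ProjectiveSpectrum.top 𝒜)}
    {u : sectN (𝒜 := 𝒜) n (op V)} (hu : IsUnitSec u) :
    Function.Bijective (fun t : GrMod.sect 𝒜 ℳ k (op V) => mulModSec t u) := by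
  obtain ⟨v, hv⟩ := hu
  constructor
  · intro t t' h
    refine sect_ext 𝒜 ℳ _ _ fun x => ?_
    have h1 := congrArg (fun w : GrMod.sect 𝒜 ℳ (k + n) (op V) => (v.1 x).1 • (w.1 x).1) h
    simp only [mulModSec_apply, ← mul_smul] at h1
    rw [mul_comm, hv x, one_smul, one_smul] at h1
    exact h1
  · intro s
    refine ⟨castSecM (by ring) (mulModSec s v), ?_⟩
    refine sect_ext 𝒜 ℳ _ _ fun x => ?_
    change (u.1 x).1 • ((castSecM _ (mulModSec s v)).1 x).1 = _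
    rw [castSecM_val, mulModSec_apply, ← mul_smul, hv x, one_smul]

/-- the multiplication `M(k)~ ⊗ O(n) ⟶ M(k + n)~` is bijective on sections over the opens inside an open
carrying a unit section of `O(n)`. -/
theorem mulModTensor_app_bijective {k n : ℤ} {U : (Proj 𝒜).Opens} {u : sectN (𝒜 := 𝒜) n (op U)}
    (hu : IsUnitSec u) (V : (Proj 𝒜).Opens) (hV : V ≤ U) :
    Function.Bijective ((mulModTensor 𝒜 ℳ k n).app V) := by
  have he := hu.isBasisOver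
  have h1 := QC.bijective_tmul_of_isBasisOver (GrMod.tilde 𝒜 ℳ k) (twist 𝒜 n) he V hV
  have h2 : Function.Bijective (fun t : GrMod.sect 𝒜 ℳ k (op V) => mulModSec t (resSec hV u)) :=
    mulModSec_bijective_of_isUnitSec (hu.res hV)
  have h3 : (fun t : GrMod.sect 𝒜 ℳ k (op V) => mulModSec t (resSec hV u)) =
      (fun z => (mulModTensor 𝒜 ℳ k n).app V z) ∘
        (fun t : Γ(GrMod.tilde 𝒜 ℳ k, V) => SecTwist.tmul (GrMod.tilde 𝒜 ℳ k) (twist 𝒜 n) V t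
          ((twist 𝒜 n).presheaf.map (homOfLE hV).op (show Γ(twist 𝒜 n, U) from u))) := by
    funext t
    rw [Function.comp_apply, mulModTensor_app_tmul]
    rfl
  rw [h3] at h2
  exact (Function.Bijective.of_comp_iff _ h1).mp h2

/-- **`M(k)~ ⊗ O(n) ≅ M(k + n)~`** when `O(n)` has unit sections near every point. -/
theorem isIso_mulModTensor (k n : ℤ)
    (h : ∀ x : Proj 𝒜, ∃ (U : (Proj 𝒜).Opens) (u : sectN (𝒜 := 𝒜) n (op U)), x ∈ U ∧ IsUnitSec u) :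
    IsIso (mulModTensor 𝒜 ℳ k n) := by
  apply QC.isIso_of_local_bijective
  intro x W hxW
  obtain ⟨U, u, hxU, hu⟩ := h x
  exact ⟨W ⊓ U, ⟨hxW, hxU⟩, inf_le_left, mulModTensor_app_bijective hu _ inf_le_right⟩

end Groth.Agent.H8.GTW
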