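import Groth.Agent.Lib.Helper8.GTW.MulHom
import Mathlib.AlgebraicGeometry.ProjectiveSpectrum.Scheme

/-! # Twisting sheaves: multiplication by a homogeneous element is invertible on its basic open. -/

universe u
open CategoryTheory AlgebraicGeometry TopologicalSpace Opposite

namespace Groth.Agent.H8.GTW

variable {A σ : Type u} [CommRing A] [SetLike σ A] [AddSubgroupClass σ A] {𝒜 : ℕ → σ} [GradedRing 𝒜]

open GrTwist

/-- transport of sections along an equality of degrees. -/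
def castSec {m m' : ℤ} (h : m = m') {U : (Opens (ProjectiveSpectrum.top 𝒜))ᵒᵖ}
    (s : sectN (𝒜 := 𝒜) m U) : sectN (𝒜 := 𝒜) m' U := h ▸ s

lemma castSec_val {m m' : ℤ} (h : m = m') {U : (Opens (ProjectiveSpectrum.top 𝒜))ᵒᵖ}
    (s : sectN (𝒜 := 𝒜) m U) (x : U.unop) :
    (((castSec h s).1 x : twistAt 𝒜 m' x.1) : Loc 𝒜 x.1) = (s.1 x).1 := by
  subst h; rfl

/-- the section `1 / a` of `O(-i)` over `D₊(a)`. -/
def invSec {i : ℕ} (a : 𝒜 i) :
    sectN (𝒜 := 𝒜) (-(i : ℤ)) (op (ProjectiveSpectrum.basicOpen 𝒜 (a : A))) :=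
  ⟨fun x => ⟨Localization.mk 1 ⟨a.1, x.2⟩,
      mk_mem_twistAt (⟨1, SetLike.GradedOne.one_mem⟩ : 𝒜 0) a x.2 (by simp)⟩,
   fun x => ⟨ProjectiveSpectrum.basicOpen 𝒜 (a : A), x.2, 𝟙 _, 0, i,
    ⟨1, SetLike.GradedOne.one_mem⟩, a, fun y => y.2, Or.inl (by simp), fun _ => rfl⟩⟩

lemma globalOf_val {i : ℕ} (a : 𝒜 i) (x : (⊤ : Opens (ProjectiveSpectrum.top 𝒜))) :
    (((globalOf 𝒜 a).1 x : twistAt 𝒜 i x.1) : Loc 𝒜 x.1) =
      (Localization.mk a.1 ⟨1, fun h => x.1.isPrime.ne_top ((Ideal.eq_top_iff_one _).mpr h)⟩ :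
        Loc 𝒜 x.1) := rfl

lemma mk_mul_mk_inv {x : ProjectiveSpectrum 𝒜} (a : A) (ha : a ∉ x.asHomogeneousIdeal)
    (h1 : (1 : A) ∉ x.asHomogeneousIdeal) :
    (Localization.mk a ⟨1, h1⟩ : Loc 𝒜 x) * (Localization.mk 1 ⟨a, ha⟩ : Loc 𝒜 x) = 1 := by
  rw [Localization.mk_mul, mul_one]
  have : (⟨1, h1⟩ * ⟨a, ha⟩ : x.asHomogeneousIdeal.toIdeal.primeCompl) = ⟨a, ha⟩ :=
    Subtype.ext (one_mul a)
  rw [this]
  exact Localization.mk_self (⟨a, ha⟩ : x.asHomogeneousIdeal.toIdeal.primeCompl)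

/-- multiplication by `a` is bijective on sections over opens inside `D₊(a)`. -/
theorem mulSec_globalOf_bijective {i : ℕ} (a : 𝒜 i) (n : ℤ)
    {V : Opens (ProjectiveSpectrum.top 𝒜)} (hV : V ≤ ProjectiveSpectrum.basicOpen 𝒜 (a : A)) :
    Function.Bijective (mulSec (n := n) (le_top : V ≤ ⊤) (globalOf 𝒜 a)) := by
  constructor
  · intro s t hst
    apply sectN_ext
    intro x
    have h := congrArg (fun w : sectN (𝒜 := 𝒜) ((i : ℤ) + n) (op V) => ((w.1 x).1 : Loc 𝒜 x.1)) hst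
    simp only [mulSec_apply, globalOf_val] at h
    have hu := mk_mul_mk_inv (x := x.1) a.1 (hV x.2)
      (fun h => x.1.isPrime.ne_top ((Ideal.eq_top_iff_one _).mpr h))
    calc (s.1 x).1 = (Localization.mk 1 ⟨a.1, hV x.2⟩ : Loc 𝒜 x.1) *
          (Localization.mk a.1 ⟨1, _⟩ * (s.1 x).1) := by
          rw [← mul_assoc, mul_comm (Localization.mk 1 _), hu, one_mul]
      _ = (Localization.mk 1 ⟨a.1, hV x.2⟩ : Loc 𝒜 x.1) *
          (Localization.mk a.1 ⟨1, _⟩ * (t.1 x).1) := by rw [h]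
      _ = (t.1 x).1 := by
          rw [← mul_assoc, mul_comm (Localization.mk 1 _), hu, one_mul]
  · intro t
    refine ⟨castSec (by ring) (mulSec hV (invSec a) t), ?_⟩
    apply sectN_ext
    intro x
    rw [mulSec_apply, castSec_val, mulSec_apply, globalOf_val]
    have hu := mk_mul_mk_inv (x := x.1) a.1 (hV x.2)
      (fun h => x.1.isPrime.ne_top ((Ideal.eq_top_iff_one _).mpr h))
    change Localization.mk a.1 ⟨1, _⟩ * (Localization.mk 1 ⟨a.1, hV x.2⟩ * (t.1 x).1) = _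
    rw [← mul_assoc, hu, one_mul]

end Groth.Agent.H8.GTW

namespace Groth.Agent.H8.GTW

variable {A σ : Type u} [CommRing A] [SetLike σ A] [AddSubgroupClass σ A] {𝒜 : ℕ → σ} [GradedRing 𝒜]

open GrTwist

lemma mulHom_app_apply {k : ℤ} (u : sectN (𝒜 := 𝒜) k (op ⊤)) (n : ℤ) (U : (Proj 𝒜).Opens)
    (s : Γ(twist 𝒜 n, U)) :
    (mulHom u n).app U s = mulSec (le_top : U ≤ ⊤) u s := rfl

/-- a morphism of modules which is bijective on sections over opens inside `U` restricts to an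
isomorphism on `U`. -/
theorem isIso_restrict_of_bijective {X : Scheme.{u}} {M N : X.Modules} (φ : M ⟶ N) (U : X.Opens)
    (h : ∀ V : X.Opens, V ≤ U → Function.Bijective (φ.app V)) :
    IsIso ((Scheme.Modules.restrictFunctor U.ι).map φ) := by
  rw [Scheme.Modules.Hom.isIso_iff_isIso_app]
  intro V
  have hb : Function.Bijective (((Scheme.Modules.restrictFunctor U.ι).map φ).app V) :=
    h (U.ι ''ᵁ V) (by
      intro x hx
      obtain ⟨y, -, rfl⟩ := hx
      exact y.2)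
  exact (ConcreteCategory.isIso_iff_bijective _).mpr hb

/-- multiplication by `a` restricts to an isomorphism `O(n)|_{D₊(a)} ≅ O(i + n)|_{D₊(a)}`. -/
noncomputable def mulIsoBasicOpen {i : ℕ} (a : 𝒜 i) (n : ℤ) :
    (twist 𝒜 n).restrict (Proj.basicOpen 𝒜 (a : A)).ι ≅
      (twist 𝒜 ((i : ℤ) + n)).restrict (Proj.basicOpen 𝒜 (a : A)).ι :=
  haveI := isIso_restrict_of_bijective (mulHom (globalOf 𝒜 a) n) (Proj.basicOpen 𝒜 (a : A))
    (fun V hV => mulSec_globalOf_bijective a n hV)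
  asIso ((Scheme.Modules.restrictFunctor (Proj.basicOpen 𝒜 (a : A)).ι).map
    (mulHom (globalOf 𝒜 a) n))

/-- transport along an equality of degrees. -/
noncomputable def twistCongr {m m' : ℤ} (h : m = m') : twist 𝒜 m ≅ twist 𝒜 m' := eqToIso (by rw [h])

end Groth.Agent.H8.GTW
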