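import Groth.Agent.Lib.Helper8.GTW.Deg1
import Groth.Agent.Lib.Lead.QC.EpiLocal

/-! # Twisting sheaves: `O(n)`, `n ≥ 0`, is globally generated when `S_+` is generated in degree one. -/

universe u
open CategoryTheory AlgebraicGeometry TopologicalSpace Opposite

namespace Groth.Agent.H8.GTW
open Groth.Agent.LD

variable {A σ : Type u} [CommRing A] [SetLike σ A] [AddSubgroupClass σ A] {𝒜 : ℕ → σ} [GradedRing 𝒜]

open GrTwist

lemma resSec_castSec {k k' : ℤ} (h : k = k') {W V : Opens (ProjectiveSpectrum.top 𝒜)} (hV : V ≤ W)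
    (u : sectN (𝒜 := 𝒜) k (op W)) : resSec hV (castSec h u) = castSec h (resSec hV u) := by
  subst h; rfl

/-- the global section `f ^ n` of `O(n)` for `f` of degree one. -/
noncomputable def powGlobal (f : A) (hf : f ∈ 𝒜 1) (n : ℕ) : sectN (𝒜 := 𝒜) (n : ℤ) (op ⊤) :=
  castSec (by simp) (globalOf 𝒜 (⟨f ^ n, SetLike.pow_mem_graded n hf⟩ : 𝒜 (n • 1)))

lemma isUnitSec_powGlobal (f : A) (hf : f ∈ 𝒜 1) (n : ℕ)
    {V : Opens (ProjectiveSpectrum.top 𝒜)} (hV : V ≤ ProjectiveSpectrum.basicOpen 𝒜 f) :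
    IsUnitSec (resSec (le_top : V ≤ ⊤) (powGlobal f hf n)) := by
  have hV' : V ≤ ProjectiveSpectrum.basicOpen 𝒜 (f ^ n) := by
    rcases Nat.eq_zero_or_pos n with rfl | hn
    · rw [pow_zero, ProjectiveSpectrum.basicOpen_one]; exact le_top
    · rw [ProjectiveSpectrum.basicOpen_pow 𝒜 f n hn]; exact hV
  rw [powGlobal, resSec_castSec]
  exact (isUnitSec_globalOf (⟨f ^ n, SetLike.pow_mem_graded n hf⟩ : 𝒜 (n • 1)) hV').cast _

/-- `O(n)`, `n ≥ 0`, is a quotient of a finite free module. -/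
theorem exists_epi_free (s : Finset A) (hs1 : ∀ f ∈ s, f ∈ 𝒜 1)
    (hs : (HomogeneousIdeal.irrelevant 𝒜).toIdeal = Ideal.span (s : Set A)) (n : ℕ) :
    ∃ (k : ℕ) (p : FlatMod.freeMod (Proj 𝒜) k ⟶ twist 𝒜 (n : ℤ)), Epi p := by
  classical
  let e := s.equivFin
  let t : Fin s.card → Γ(twist 𝒜 (n : ℤ), ⊤) := fun i =>
    (show Γ(twist 𝒜 (n : ℤ), ⊤) from powGlobal (e.symm i).1 (hs1 _ (e.symm i).2) n)
  refine ⟨s.card, QC.homOfSections (twist 𝒜 (n : ℤ)) t, ?_⟩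
  apply QC.epi_homOfSections_of_isBasisOver
  intro x
  obtain ⟨f, hfs, hxf⟩ := exists_mem_basicOpen_of_span hs x
  refine ⟨e ⟨f, hfs⟩, Proj.basicOpen 𝒜 f, hxf, ?_⟩
  have h1 := (isUnitSec_powGlobal f (hs1 f hfs) n (le_refl (ProjectiveSpectrum.basicOpen 𝒜 f))).isBasisOver
  have h2 : t (e ⟨f, hfs⟩) = (show Γ(twist 𝒜 (n : ℤ), ⊤) from powGlobal f (hs1 f hfs) n) := by
    simp only [t, Equiv.symm_apply_apply]
  rw [h2]
  exact h1

end Groth.Agent.H8.GTW
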