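import Groth.Agent.Lib.Helper8.GTW.ModMul
import Groth.Agent.Lib.Helper8.GTW.Deg1

/-! # `M~ ⊗ O(nd) ≅ M(nd)~` over `W_d`. -/

universe u
open CategoryTheory AlgebraicGeometry TopologicalSpace Opposite

namespace Groth.Agent.H8.GTW
open Groth.Agent.LD

variable {A σ : Type u} [CommRing A] [SetLike σ A] [AddSubgroupClass σ A] {𝒜 : ℕ → σ} [GradedRing 𝒜]

open GrTwist

/-- over `D₊(ab)`, `deg a = deg b + d`, there are pointwise invertible sections of `O(nd)`. -/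
theorem exists_isUnitSec_mul {d j : ℕ} (a b : A) (ha : a ∈ 𝒜 (j + d)) (hb : b ∈ 𝒜 j) (n : ℤ)
    {V : Opens (ProjectiveSpectrum.top 𝒜)} (hV : V ≤ ProjectiveSpectrum.basicOpen 𝒜 (a * b)) :
    ∃ u : sectN (𝒜 := 𝒜) (n * d) (op V), IsUnitSec u := by
  have hVa : V ≤ ProjectiveSpectrum.basicOpen 𝒜 a :=
    hV.trans (by rw [ProjectiveSpectrum.basicOpen_mul]; exact inf_le_left)
  have hVb : V ≤ ProjectiveSpectrum.basicOpen 𝒜 b :=
    hV.trans (by rw [ProjectiveSpectrum.basicOpen_mul]; exact inf_le_right)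
  obtain ⟨ua, hua⟩ := exists_isUnitSec a ha n hVa
  obtain ⟨ub, hub⟩ := exists_isUnitSec b hb (-n) hVb
  exact ⟨castSec (by push_cast; ring) (mulSec le_rfl ua ub), (hua.mul hub).cast _⟩

end Groth.Agent.H8.GTW

namespace Groth.Agent.H8.GTW
open Groth.Agent.LD

variable {A σ : Type u} [CommRing A] [SetLike σ A] [AddSubgroupClass σ A] {𝒜 : ℕ → σ} [GradedRing 𝒜]
variable {M τ : Type u} [AddCommGroup M] [Module A M] [SetLike τ M] [AddSubgroupClass τ M] {ℳ : ℕ → τ}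
  [SetLike.GradedSMul 𝒜 ℳ]

open GrTwist

/-- `M(k)~ ⊗ O(n) ⟶ M(k+n)~` is an isomorphism over any open covered by opens carrying unit sections of
`O(n)`. -/
theorem isIso_restrict_mulModTensor (k n : ℤ) (W : (Proj 𝒜).Opens)
    (h : ∀ x ∈ W, ∃ (U : (Proj 𝒜).Opens) (u : sectN (𝒜 := 𝒜) n (op U)), x ∈ U ∧ IsUnitSec u) :
    IsIso ((Scheme.Modules.restrictFunctor W.ι).map (mulModTensor 𝒜 ℳ k n)) := by
  rw [QC.isIso_restrict_iff]
  apply QC.bijective_app_of_local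
  intro x hx
  obtain ⟨U, u, hxU, hu⟩ := h x hx
  exact ⟨U, hxU, fun V hV => mulModTensor_app_bijective hu V hV⟩

end Groth.Agent.H8.GTW
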