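import Groth.Agent.Lib.Helper8.GTW.ModMulW
import Groth.Prelude.Def_Twist2
import Groth.Prelude.Def_GrMod2

/-! # `M~ ⊗ O(n) ≅ M(n)~` over opens with unit sections (Submodule setting). -/

universe u
open CategoryTheory AlgebraicGeometry TopologicalSpace Opposite

namespace Groth.Agent.H8.GTW
open Groth.Agent.LD

variable {R A : Type u} [CommRing R] [CommRing A] [Algebra R A] (𝒜 : ℕ → Submodule R A) [GradedAlgebra 𝒜]
  {M : Type u} [AddCommGroup M] [Module R M] [Module A M] [IsScalarTower R A M] (ℳ : ℕ → Submodule R M)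
  [DirectSum.Decomposition ℳ] [SetLike.GradedSMul 𝒜 ℳ]

open GrTwist

theorem nonempty_restrict_twistBy_iso (n : ℤ) (W : (Proj 𝒜).Opens)
    (h : ∀ x ∈ W, ∃ (U : (Proj 𝒜).Opens) (u : sectN (𝒜 := 𝒜) n (op U)), x ∈ U ∧ IsUnitSec u) :
    Nonempty ((Twist.twistBy 𝒜 (GrTilde.tilde 𝒜 ℳ 0) n).restrict W.ι ≅
      (GrTilde.tilde 𝒜 ℳ n).restrict W.ι) := by
  have hiso := isIso_restrict_mulModTensor (𝒜 := 𝒜) (ℳ := ℳ) 0 n W h
  have e : GrMod.tilde 𝒜 ℳ (0 + n) = GrTilde.tilde 𝒜 ℳ n := by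
    rw [zero_add]; rfl
  exact ⟨@asIso _ _ _ _ _ hiso ≪≫ (Scheme.Modules.restrictFunctor _).mapIso (eqToIso e)⟩

end Groth.Agent.H8.GTW
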