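import Groth.Agent.Lib.Helper8.GTW.Pointwise

/-! # Twisting sheaves: multiplication of sections. -/

universe u
open CategoryTheory AlgebraicGeometry TopologicalSpace Opposite

namespace Groth.Agent.H8.GTW

variable {A σ : Type u} [CommRing A] [SetLike σ A] [AddSubgroupClass σ A] {𝒜 : ℕ → σ} [GradedRing 𝒜]

open GrTwist

/-- pointwise product of a section of `O(k)` over `W` with a section of `O(n)` over `V ≤ W`. -/
def mulFun {k n : ℤ} {W V : Opens (ProjectiveSpectrum.top 𝒜)} (hV : V ≤ W)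
    (u : ∀ x : W, twistAt 𝒜 k x.1) (s : ∀ x : V, twistAt 𝒜 n x.1) :
    ∀ x : V, twistAt 𝒜 (k + n) x.1 :=
  fun x => ⟨(u ⟨x.1, hV x.2⟩).1 * (s x).1, mul_mem_twistAt (u ⟨x.1, hV x.2⟩).2 (s x).2⟩

lemma mulFun_pred {k n : ℤ} {W V : Opens (ProjectiveSpectrum.top 𝒜)} (hV : V ≤ W)
    (u : ∀ x : W, twistAt 𝒜 k x.1) (hu : (isLocFracN 𝒜 k).pred u)
    (s : ∀ x : V, twistAt 𝒜 n x.1) (hs : (isLocFracN 𝒜 n).pred s) :
    (isLocFracN 𝒜 (k + n)).pred (mulFun hV u s) := fun x => by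
  rcases hu ⟨x.1, hV x.2⟩ with ⟨Va, ma, ia, i, j, ⟨a, a_mem⟩, ⟨c, c_mem⟩, nina, ca, wa⟩
  rcases hs x with ⟨Vb, mb, ib, i', j', ⟨b, b_mem⟩, ⟨t, t_mem⟩, ninb, cb, wb⟩
  replace ca : (i : ℤ) = j + k ∨ a = 0 := ca
  replace cb : (i' : ℤ) = j' + n ∨ b = 0 := cb
  have nin : ∀ y : (Va ⊓ Vb : Opens _), c * t ∉ y.1.asHomogeneousIdeal := fun y h =>
    ((y.1.isPrime.mem_or_mem h).elim (nina ⟨y.1, y.2.1⟩)) (ninb ⟨y.1, y.2.2⟩)
  refine ⟨Va ⊓ Vb, ⟨ma, mb⟩, Opens.infLERight _ _ ≫ ib, i + i', j + j',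
    ⟨a * b, SetLike.mul_mem_graded a_mem b_mem⟩, ⟨c * t, SetLike.mul_mem_graded c_mem t_mem⟩,
    nin, ?_, fun y => ?_⟩
  · rcases ca with ha | ha
    · rcases cb with hb | hb
      · exact Or.inl (by push_cast; omega)
      · exact Or.inr (show a * b = 0 by rw [hb, mul_zero])
    · exact Or.inr (show a * b = 0 by rw [ha, zero_mul])
  · have e1 := wa ⟨y.1, y.2.1⟩
    have e2 := wb ⟨y.1, y.2.2⟩
    dsimp only at e1 e2 ⊢
    change (u ⟨y.1, hV (leOfHom ib y.2.2)⟩).1 * (s ⟨y.1, leOfHom ib y.2.2⟩).1 = _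
    erw [e1, e2]
    rw [Localization.mk_mul]
    rfl

/-- product of sections. -/
def mulSec {k n : ℤ} {W V : Opens (ProjectiveSpectrum.top 𝒜)} (hV : V ≤ W)
    (u : sectN (𝒜 := 𝒜) k (op W)) (s : sectN (𝒜 := 𝒜) n (op V)) : sectN (𝒜 := 𝒜) (k + n) (op V) :=
  ⟨mulFun hV u.1 s.1, mulFun_pred hV u.1 u.2 s.1 s.2⟩

lemma mulSec_apply {k n : ℤ} {W V : Opens (ProjectiveSpectrum.top 𝒜)} (hV : V ≤ W)
    (u : sectN (𝒜 := 𝒜) k (op W)) (s : sectN (𝒜 := 𝒜) n (op V)) (x : V) :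
    ((mulSec hV u s).1 x).1 = (u.1 ⟨x.1, hV x.2⟩).1 * (s.1 x).1 := rfl

end Groth.Agent.H8.GTW
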