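import Groth.Agent.Lib.Helper8.GTW.UnitBasis

/-! # Twisting sheaves: the multiplication `O(m) ⊗ O(n) ⟶ O(m + n)`. -/

universe u
open CategoryTheory AlgebraicGeometry TopologicalSpace Opposite

namespace Groth.Agent.H8.GTW
open Groth.Agent.LD

variable {A σ : Type u} [CommRing A] [SetLike σ A] [AddSubgroupClass σ A] (𝒜 : ℕ → σ) [GradedRing 𝒜]

open GrTwist

/-- multiplication of sections as a bilinear map. -/
noncomputable def mulBilin (m n : ℤ) (U : (Proj 𝒜).Opens) :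
    Γ(twist 𝒜 m, U) →ₗ[Γ(Proj 𝒜, U)] Γ(twist 𝒜 n, U) →ₗ[Γ(Proj 𝒜, U)] Γ(twist 𝒜 (m + n), U) :=
  LinearMap.mk₂ Γ(Proj 𝒜, U)
    (fun (s : Γ(twist 𝒜 m, U)) (t : Γ(twist 𝒜 n, U)) =>
      (show Γ(twist 𝒜 (m + n), U) from mulSec (le_refl U)
        (show sectN (𝒜 := 𝒜) m (op U) from s) (show sectN (𝒜 := 𝒜) n (op U) from t)))
    (fun s s' t => mulSec_add_left _ _ _ _)
    (fun r s t => mulSec_smul_left _ _ _)
    (fun s t t' => mulSec_add _ _ _ _)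
    (fun r s t => mulSec_smul _ _ _ _)

lemma mulBilin_apply (m n : ℤ) (U : (Proj 𝒜).Opens) (s : Γ(twist 𝒜 m, U)) (t : Γ(twist 𝒜 n, U)) :
    mulBilin 𝒜 m n U s t = (show Γ(twist 𝒜 (m + n), U) from mulSec (le_refl U)
        (show sectN (𝒜 := 𝒜) m (op U) from s) (show sectN (𝒜 := 𝒜) n (op U) from t)) := rfl

/-- the multiplication `O(m) ⊗ O(n) ⟶ O(m + n)`. -/
noncomputable def mulTensor (m n : ℤ) :
    CohB1.tensorMod (twist 𝒜 m) (twist 𝒜 n) ⟶ twist 𝒜 (m + n) :=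
  QC.tensorDescAll _ _ _ (mulBilin 𝒜 m n) (fun U V h s t => rfl)

lemma mulTensor_app_tmul (m n : ℤ) (U : (Proj 𝒜).Opens) (s : Γ(twist 𝒜 m, U))
    (t : Γ(twist 𝒜 n, U)) :
    (mulTensor 𝒜 m n).app U (SecTwist.tmul _ _ U s t) = mulBilin 𝒜 m n U s t :=
  QC.tensorDescAll_app_tmul _ _ _ _ _ U s t

variable {𝒜}

/-- if `O(m)` and `O(n)` have pointwise invertible sections near every point, then
`O(m) ⊗ O(n) ≅ O(m + n)`. -/
theorem isIso_mulTensor (m n : ℤ)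
    (h : ∀ x : Proj 𝒜, ∃ (U : (Proj 𝒜).Opens) (u : sectN (𝒜 := 𝒜) m (op U))
      (u' : sectN (𝒜 := 𝒜) n (op U)), x ∈ U ∧ IsUnitSec u ∧ IsUnitSec u') :
    IsIso (mulTensor 𝒜 m n) := by
  apply QC.isIso_of_forall_isBasisOver
  intro x
  obtain ⟨U, u, u', hxU, hu, hu'⟩ := h x
  refine ⟨U, SecTwist.tmul _ _ U (show Γ(twist 𝒜 m, U) from u) (show Γ(twist 𝒜 n, U) from u'),
    hxU, hu.isBasisOver.tmul hu'.isBasisOver, ?_⟩
  rw [mulTensor_app_tmul, mulBilin_apply]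
  exact (hu.mul hu').isBasisOver

/-- the irrelevant ideal is generated in degree one: every point lies in some `D₊(f)`, `f ∈ 𝒜 1`. -/
theorem exists_mem_basicOpen_of_span {s : Set A}
    (hgen : (HomogeneousIdeal.irrelevant 𝒜).toIdeal = Ideal.span s)
    (x : ProjectiveSpectrum 𝒜) : ∃ f ∈ s, x ∈ ProjectiveSpectrum.basicOpen 𝒜 f := by
  by_contra hcon
  push Not at hcon
  apply x.not_irrelevant_le
  change (HomogeneousIdeal.irrelevant 𝒜).toIdeal ≤ x.asHomogeneousIdeal.toIdeal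
  rw [hgen, Ideal.span_le]
  intro f hf
  by_contra hfx
  exact hcon f hf hfx

end Groth.Agent.H8.GTW
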