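import Groth.Agent.Lib.Helper8.GTW.Deg1
import Groth.Agent.Lib.Lead.TW.MulX
import Groth.Agent.Lib.Lead.QC.TensorExact

/-! # Multiplication by an element of degree one as a morphism `O(d) ⟶ O(d+1)`. -/

universe u
open CategoryTheory AlgebraicGeometry TopologicalSpace Opposite

namespace Groth.Agent.H8.GTW
open Groth.Agent.LD

variable {A σ : Type u} [CommRing A] [SetLike σ A] [AddSubgroupClass σ A] {𝒜 : ℕ → σ} [GradedRing 𝒜]

open GrTwist

lemma castSec_add {m m' : ℤ} (h : m = m') {U : (Opens (ProjectiveSpectrum.top 𝒜))ᵒᵖ}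
    (s t : sectN (𝒜 := 𝒜) m U) : castSec h (s + t) = castSec h s + castSec h t := by
  subst h; rfl

lemma castSec_zero {m m' : ℤ} (h : m = m') {U : (Opens (ProjectiveSpectrum.top 𝒜))ᵒᵖ} :
    castSec h (0 : sectN (𝒜 := 𝒜) m U) = 0 := by
  subst h; rfl

lemma castSec_smul {m m' : ℤ} (h : m = m') {U : (Opens (ProjectiveSpectrum.top 𝒜))ᵒᵖ}
    (r : O (𝒜 := 𝒜) U) (s : sectN (𝒜 := 𝒜) m U) : castSec h (r • s) = r • castSec h s := by
  subst h; rfl

lemma castSec_res {m m' : ℤ} (h : m = m') {U V : (Opens (ProjectiveSpectrum.top 𝒜))ᵒᵖ}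
    (i : U ⟶ V) (s : sectN (𝒜 := 𝒜) m U) : resN m' i (castSec h s) = castSec h (resN m i s) := by
  subst h; rfl

lemma castSec_bijective {m m' : ℤ} (h : m = m') (U : (Opens (ProjectiveSpectrum.top 𝒜))ᵒᵖ) :
    Function.Bijective (castSec (𝒜 := 𝒜) h (U := U)) := by
  subst h
  exact Function.bijective_id

lemma one_add_eq (d : ℤ) : ((1 : ℕ) : ℤ) + d = d + 1 := by push_cast; ring

/-- multiplication by an element of degree one, as a morphism of presheaves. -/
def mulXPre (a : 𝒜 1) (d : ℤ) : twistPre 𝒜 d ⟶ twistPre 𝒜 (d + 1) where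
  app U := AddCommGrpCat.ofHom
    { toFun := fun s => castSec (one_add_eq d) (mulSec (le_top : U.unop ≤ ⊤) (globalOf 𝒜 a) s)
      map_zero' := by rw [mulSec_zero, castSec_zero]
      map_add' := fun s t => by rw [mulSec_add, castSec_add] }
  naturality U V i := by
    ext s
    exact (castSec_res (one_add_eq d) i (mulSec (le_top : U.unop ≤ ⊤) (globalOf 𝒜 a) s)).symm

/-- multiplication by an element of degree one. -/
noncomputable def mulX (a : 𝒜 1) (d : ℤ) : twist 𝒜 d ⟶ twist 𝒜 (d + 1) :=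
  ⟨PresheafOfModules.homMk (M₁ := twistPMod 𝒜 d) (M₂ := twistPMod 𝒜 (d + 1)) (mulXPre a d)
    (fun U r s => (congrArg (castSec (one_add_eq d))
      (mulSec_smul (le_top : U.unop ≤ ⊤) (globalOf 𝒜 a) r s)).trans
        (castSec_smul (one_add_eq d) r _))⟩

lemma mulX_app_apply (a : 𝒜 1) (d : ℤ) (U : (Proj 𝒜).Opens) (s : Γ(twist 𝒜 d, U)) :
    (mulX a d).app U s = castSec (one_add_eq d) (mulSec (le_top : U ≤ ⊤) (globalOf 𝒜 a) s) := rfl

lemma mulX_app_val (a : 𝒜 1) (d : ℤ) (U : (Proj 𝒜).Opens) (s : Γ(twist 𝒜 d, U)) (x : U) :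
    (((show sectN (𝒜 := 𝒜) (d+1) (op U) from (mulX a d).app U s).1 x : twistAt 𝒜 (d+1) x.1) :
      Loc 𝒜 x.1) = ((globalOf 𝒜 a).1 ⟨x.1, trivial⟩).1 *
        ((show sectN (𝒜 := 𝒜) d (op U) from s).1 x).1 := by
  rw [mulX_app_apply, castSec_val, mulSec_apply]
  rfl

lemma mulX_comm (a b : 𝒜 1) (d : ℤ) :
    mulX a d ≫ mulX b (d+1) = mulX b d ≫ mulX a (d+1) := by
  apply Scheme.Modules.hom_ext
  intro U
  ext s
  change (show sectN (𝒜 := 𝒜) (d+1+1) (op U) from (mulX b (d+1)).app U ((mulX a d).app U s)) =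
    (show sectN (𝒜 := 𝒜) (d+1+1) (op U) from (mulX a (d+1)).app U ((mulX b d).app U s))
  apply sectN_ext
  intro x
  rw [mulX_app_val, mulX_app_val, mulX_app_val, mulX_app_val]
  ring

/-- multiplication by `a` is bijective on sections over opens inside `D₊(a)`. -/
theorem mulX_app_bijective (a : 𝒜 1) (d : ℤ) (V : (Proj 𝒜).Opens)
    (hV : V ≤ Proj.basicOpen 𝒜 (a : A)) : Function.Bijective ((mulX a d).app V) := by
  have h1 : ⇑(ConcreteCategory.hom ((mulX a d).app V)) =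
      (castSec (𝒜 := 𝒜) (one_add_eq d) (U := op V)) ∘
        (mulSec (n := d) (le_top : V ≤ ⊤) (globalOf 𝒜 a)) := rfl
  rw [h1]
  exact (castSec_bijective _ _).comp (mulSec_globalOf_bijective a d hV)

end Groth.Agent.H8.GTW
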